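import Cfsg.Agent.Lib.FFTransv57.Final
import Cfsg.Agent.Lib.FFComp65.Components

/-!
# The component theorem
-/

set_option autoImplicit false

namespace Cfsg.Agent.Lib.FFTransv57

universe u v

/-- The component theorem for faithful `p`-minimal modules with an exact subgroup. -/
theorem componentsStatement : FFComp65.ComponentsStatement.{u, v} :=
  FFComp65.components_of_two fun _ _ _ _ _ _ _ _ _ _ _ hpW h hO _ hA h2 _ =>
    comps_two hpW h hO (FFComp65.atom_of_atom69 h hO hpW hA) h2

end Cfsg.Agent.Lib.FFTransv57
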